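import Mathlib

/-!
# Fixed points of pronormal subgroups (S3399): definitions and basic calculus

`pf_fix K` is the set of points fixed by the permutation group `K`; `pf_conj g K = g K g⁻¹` in
the form `K.map (MulAut.conj g).toMonoidHom` used by the statement.
-/

set_option autoImplicit false

namespace Cfsg.Agent.PronFix

variable {n : ℕ}

/-- fixed points of a subgroup of `Perm (Fin n)` -/
noncomputable def pf_fix (K : Subgroup (Equiv.Perm (Fin n))) : Finset (Fin n) :=
  haveI : DecidablePred (fun a : Fin n => ∀ k ∈ K, k a = a) := Classical.decPred _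
  Finset.univ.filter (fun a => ∀ k ∈ K, k a = a)

/-- the conjugate subgroup `g K g⁻¹` -/
def pf_conj (g : Equiv.Perm (Fin n)) (K : Subgroup (Equiv.Perm (Fin n))) :
    Subgroup (Equiv.Perm (Fin n)) :=
  K.map (MulAut.conj g).toMonoidHom

theorem pf_mem_fix {K : Subgroup (Equiv.Perm (Fin n))} {a : Fin n} :
    a ∈ pf_fix K ↔ ∀ k ∈ K, k a = a := by
  unfold pf_fix
  simp

theorem pf_mem_conj {g x : Equiv.Perm (Fin n)} {K : Subgroup (Equiv.Perm (Fin n))} :
    x ∈ pf_conj g K ↔ g⁻¹ * x * g ∈ K := by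
  unfold pf_conj
  rw [Subgroup.mem_map]
  constructor
  · rintro ⟨k, hk, rfl⟩
    simpa [MulAut.conj_apply, mul_assoc] using hk
  · intro hx
    exact ⟨g⁻¹ * x * g, hx, by simp [MulAut.conj_apply, mul_assoc]⟩

theorem pf_conj_mem {g k : Equiv.Perm (Fin n)} {K : Subgroup (Equiv.Perm (Fin n))} (hk : k ∈ K) :
    g * k * g⁻¹ ∈ pf_conj g K := by
  rw [pf_mem_conj]
  simpa [mul_assoc] using hk

theorem pf_conj_one (K : Subgroup (Equiv.Perm (Fin n))) : pf_conj 1 K = K := by
  ext x
  rw [pf_mem_conj]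
  simp

theorem pf_conj_conj (a b : Equiv.Perm (Fin n)) (K : Subgroup (Equiv.Perm (Fin n))) :
    pf_conj a (pf_conj b K) = pf_conj (a * b) K := by
  ext x
  rw [pf_mem_conj, pf_mem_conj, pf_mem_conj]
  simp [mul_assoc]

theorem pf_conj_self {k : Equiv.Perm (Fin n)} {K : Subgroup (Equiv.Perm (Fin n))} (hk : k ∈ K) :
    pf_conj k K = K := by
  ext x
  rw [pf_mem_conj]
  constructor
  · intro h
    have := K.mul_mem (K.mul_mem hk h) (K.inv_mem hk)
    simpa [mul_assoc] using this
  · intro h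
    exact K.mul_mem (K.mul_mem (K.inv_mem hk) h) hk

theorem pf_conj_injective (g : Equiv.Perm (Fin n)) :
    Function.Injective (pf_conj (n := n) g) := by
  intro K L h
  have := congrArg (pf_conj g⁻¹) h
  rwa [pf_conj_conj, pf_conj_conj, inv_mul_cancel, pf_conj_one, pf_conj_one] at this

theorem pf_conj_le {g : Equiv.Perm (Fin n)} {K J : Subgroup (Equiv.Perm (Fin n))} (hK : K ≤ J)
    (hg : g ∈ J) : pf_conj g K ≤ J := by
  intro x hx
  rw [pf_mem_conj] at hx
  have := J.mul_mem (J.mul_mem hg (hK hx)) (J.inv_mem hg)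
  simpa [mul_assoc] using this

/-- a point is fixed by `g K g⁻¹` iff its preimage under `g` is fixed by `K` -/
theorem pf_mem_fix_conj {g : Equiv.Perm (Fin n)} {K : Subgroup (Equiv.Perm (Fin n))} {a : Fin n} :
    a ∈ pf_fix (pf_conj g K) ↔ g⁻¹ a ∈ pf_fix K := by
  rw [pf_mem_fix, pf_mem_fix]
  constructor
  · intro h k hk
    have := h _ (pf_conj_mem (g := g) hk)
    simp only [Equiv.Perm.coe_mul, Function.comp_apply] at this
    have h2 := congrArg (fun z => g⁻¹ z) this
    simpa using h2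
  · intro h x hx
    rw [pf_mem_conj] at hx
    have := h _ hx
    simp only [Equiv.Perm.coe_mul, Function.comp_apply] at this
    have h2 := congrArg (fun z => g z) this
    simpa using h2

theorem pf_fix_conj (g : Equiv.Perm (Fin n)) (K : Subgroup (Equiv.Perm (Fin n))) :
    pf_fix (pf_conj g K) = (pf_fix K).map g.toEmbedding := by
  ext a
  rw [pf_mem_fix_conj, Finset.mem_map]
  constructor
  · intro h
    exact ⟨g⁻¹ a, h, by simp⟩
  · rintro ⟨b, hb, rfl⟩
    simpa using hb

theorem pf_card_fix_conj (g : Equiv.Perm (Fin n)) (K : Subgroup (Equiv.Perm (Fin n))) :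
    (pf_fix (pf_conj g K)).card = (pf_fix K).card := by
  rw [pf_fix_conj, Finset.card_map]

theorem pf_fix_sup (K L : Subgroup (Equiv.Perm (Fin n))) :
    pf_fix (K ⊔ L) = pf_fix K ∩ pf_fix L := by
  ext a
  rw [Finset.mem_inter, pf_mem_fix, pf_mem_fix, pf_mem_fix]
  constructor
  · intro h
    exact ⟨fun k hk => h k (Subgroup.mem_sup_left hk), fun k hk => h k (Subgroup.mem_sup_right hk)⟩
  · rintro ⟨h1, h2⟩ x hx
    have hle : K ⊔ L ≤ MulAction.stabilizer (Equiv.Perm (Fin n)) a := by
      rw [sup_le_iff]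
      exact ⟨fun k hk => by rw [MulAction.mem_stabilizer_iff]; exact h1 k hk,
        fun k hk => by rw [MulAction.mem_stabilizer_iff]; exact h2 k hk⟩
    have := hle hx
    rwa [MulAction.mem_stabilizer_iff] at this

theorem pf_fix_anti {K L : Subgroup (Equiv.Perm (Fin n))} (h : K ≤ L) : pf_fix L ⊆ pf_fix K := by
  intro a ha
  rw [pf_mem_fix] at ha ⊢
  exact fun k hk => ha k (h hk)

end Cfsg.Agent.PronFix
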