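import Mathlib
import Cfsg.Agent.PronFix.Defs

/-!
# Fixed points of pronormal subgroups (S3399), piece (C): the double counting (helper9)

For a transitive `G ≤ Perm (Fin n)` and `K ≤ Perm (Fin n)`: with `S` the set of `G`-conjugates of `K`,
every point lies in `pf_fix L` for the same number `c` of members `L ∈ S`; hence
`|S| · |Fix K| = n · c` and `∑_{L ∈ S} |Fix K ∩ Fix L| = |Fix K| · c`.
-/

set_option autoImplicit false

namespace Cfsg.Agent.PronFix

variable {n : ℕ}

/-- double counting of incidences (point, subgroup fixing it) -/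
theorem pf_cnt_double (S : Finset (Subgroup (Equiv.Perm (Fin n)))) (T : Finset (Fin n)) :
    ∑ L ∈ S, (T ∩ pf_fix L).card = ∑ ω ∈ T, (S.filter (fun L => ω ∈ pf_fix L)).card := by
  classical
  simp_rw [← Finset.filter_mem_eq_inter, Finset.card_filter]
  exact Finset.sum_comm

/-- the incidence number is monotone along the action of `G` -/
theorem pf_cnt_le (G : Subgroup (Equiv.Perm (Fin n)))
    (S : Finset (Subgroup (Equiv.Perm (Fin n))))
    (hS : ∀ g ∈ G, ∀ L ∈ S, pf_conj g L ∈ S) {g : Equiv.Perm (Fin n)} (hg : g ∈ G) (ω : Fin n) :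
    (S.filter (fun L => ω ∈ pf_fix L)).card ≤ (S.filter (fun L => g ω ∈ pf_fix L)).card := by
  classical
  apply Finset.card_le_card_of_injOn (pf_conj g)
  · intro L hL
    rw [Finset.mem_coe, Finset.mem_filter] at hL ⊢
    refine ⟨hS g hg L hL.1, ?_⟩
    rw [pf_mem_fix_conj]
    simpa using hL.2
  · exact (pf_conj_injective g).injOn

/-- **piece (C)** -/
theorem pf_count {n : ℕ} (G K : Subgroup (Equiv.Perm (Fin n)))
    (htrans : ∀ a b : Fin n, ∃ g ∈ G, g a = b) :
    ∃ (S : Finset (Subgroup (Equiv.Perm (Fin n)))) (c : ℕ),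
      (∀ L, L ∈ S ↔ ∃ g ∈ G, L = pf_conj g K) ∧
      S.card * (pf_fix K).card = n * c ∧
      ∑ L ∈ S, (pf_fix K ∩ pf_fix L).card = (pf_fix K).card * c := by
  classical
  obtain ⟨S, hSdef⟩ : ∃ S : Finset (Subgroup (Equiv.Perm (Fin n))),
      S = (Finset.univ.filter (fun g : Equiv.Perm (Fin n) => g ∈ G)).image (fun g => pf_conj g K) :=
    ⟨_, rfl⟩
  have hmem : ∀ L, L ∈ S ↔ ∃ g ∈ G, L = pf_conj g K := by
    intro L
    rw [hSdef, Finset.mem_image]
    constructor
    · rintro ⟨g, hg, rfl⟩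
      exact ⟨g, (Finset.mem_filter.mp hg).2, rfl⟩
    · rintro ⟨g, hg, rfl⟩
      exact ⟨g, Finset.mem_filter.mpr ⟨Finset.mem_univ _, hg⟩, rfl⟩
  have hS : ∀ g ∈ G, ∀ L ∈ S, pf_conj g L ∈ S := by
    intro g hg L hL
    obtain ⟨h, hh, rfl⟩ := (hmem L).mp hL
    rw [pf_conj_conj]
    exact (hmem _).mpr ⟨g * h, G.mul_mem hg hh, rfl⟩
  have hcard : ∀ L ∈ S, (pf_fix L).card = (pf_fix K).card := by
    intro L hL
    obtain ⟨h, hh, rfl⟩ := (hmem L).mp hL
    exact pf_card_fix_conj h K
  -- the incidence number is constant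
  have hconst : ∀ a b : Fin n, (S.filter (fun L => a ∈ pf_fix L)).card =
      (S.filter (fun L => b ∈ pf_fix L)).card := by
    intro a b
    obtain ⟨g, hg, hgab⟩ := htrans a b
    apply le_antisymm
    · rw [← hgab]
      exact pf_cnt_le G S hS hg a
    · have := pf_cnt_le G S hS (G.inv_mem hg) b
      rw [← hgab] at this ⊢
      simpa using this
  rcases Nat.eq_zero_or_pos n with hn | hn
  · subst hn
    refine ⟨S, 0, hmem, ?_, ?_⟩
    · have : pf_fix K = ∅ := Finset.eq_empty_of_isEmpty _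
      rw [this]; simp
    · have : pf_fix K = ∅ := Finset.eq_empty_of_isEmpty _
      rw [this]; simp
  · obtain ⟨c, hc⟩ : ∃ c, c = (S.filter (fun L => (⟨0, hn⟩ : Fin n) ∈ pf_fix L)).card := ⟨_, rfl⟩
    have hcω : ∀ ω : Fin n, (S.filter (fun L => ω ∈ pf_fix L)).card = c := fun ω => by
      rw [hc]; exact hconst ω _
    refine ⟨S, c, hmem, ?_, ?_⟩
    · have h1 := pf_cnt_double S (Finset.univ : Finset (Fin n))
      simp only [Finset.univ_inter] at h1
      rw [Finset.sum_congr rfl hcard, Finset.sum_const, Finset.sum_congr rfl (fun ω _ => hcω ω),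
        Finset.sum_const, Finset.card_univ, Fintype.card_fin, smul_eq_mul, smul_eq_mul] at h1
      exact h1
    · rw [pf_cnt_double, Finset.sum_congr rfl (fun ω _ => hcω ω), Finset.sum_const, smul_eq_mul]

end Cfsg.Agent.PronFix
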